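import Mathlib
import Cfsg.Agent.Lib.Involves
set_option linter.all false

/-!
# Real elements of odd prime order and sections

`HasReal p G`: some element of order `p` is inverted by a 2-element. For an odd prime `p` this is equivalent to:
some 2-element acts nontrivially on a `p`-subgroup; some element of order `p` is conjugate to its inverse; the
dihedral group of order `2p` is involved in `G`. The property passes from sections to the group.
-/

set_option autoImplicit false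

namespace Cfsg.Agent.H722.RealP

open Subgroup

variable {G : Type*} [Group G]

/-- Some element of order `p` is inverted by a 2-element. -/
def HasReal (p : ℕ) (G : Type*) [Group G] : Prop :=
  ∃ x t : G, orderOf x = p ∧ (∃ k : ℕ, orderOf t = 2 ^ k) ∧ t * x * t⁻¹ = x⁻¹

/-- A real element is inverted by a 2-element. -/
theorem exists_two_elt [Finite G] {x g : G} (h : g * x * g⁻¹ = x⁻¹) :
    ∃ t : G, (∃ k : ℕ, orderOf t = 2 ^ k) ∧ t ∈ zpowers g ∧ t * x * t⁻¹ = x⁻¹ := by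
  obtain ⟨k, m, hm, hkm⟩ := Nat.exists_eq_two_pow_mul_odd (orderOf_pos g).ne'
  refine ⟨g ^ m, ⟨k, ?_⟩, npow_mem_zpowers g m, ?_⟩
  · rw [orderOf_pow_of_dvd (by rintro rfl; simp at hm) (by rw [hkm]; exact Dvd.intro_left _ rfl), hkm]
    exact Nat.mul_div_cancel _ hm.pos
  · have key : ∀ n : ℕ, g ^ (2 * n) * x * (g ^ (2 * n))⁻¹ = x := by
      intro n
      induction n with
      | zero => simp
      | succ n ih =>
        have h2 : g * (g * x * g⁻¹) * g⁻¹ = x := by
          rw [h]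
          have := congrArg (fun y => y⁻¹) h
          simp only [mul_inv_rev, inv_inv] at this
          rw [← mul_assoc] at this
          exact this
        have e : g ^ (2 * (n + 1)) = g ^ (2 * n) * (g * g) := by
          rw [mul_add, pow_add]; simp [pow_two]
        rw [e]
        calc g ^ (2 * n) * (g * g) * x * (g ^ (2 * n) * (g * g))⁻¹
            = g ^ (2 * n) * (g * (g * x * g⁻¹) * g⁻¹) * (g ^ (2 * n))⁻¹ := by group
          _ = x := by rw [h2, ih]
    obtain ⟨n, rfl⟩ := hm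
    have e : g ^ (2 * n + 1) = g * g ^ (2 * n) := by rw [pow_succ']
    rw [e]
    calc g * g ^ (2 * n) * x * (g * g ^ (2 * n))⁻¹
        = g * (g ^ (2 * n) * x * (g ^ (2 * n))⁻¹) * g⁻¹ := by group
      _ = x⁻¹ := by rw [key n, h]

theorem hasReal_of_isConj [Finite G] {p : ℕ} {x : G} (hx : orderOf x = p) (h : IsConj x x⁻¹) :
    HasReal p G := by
  obtain ⟨g, hg⟩ := isConj_iff.1 h
  obtain ⟨t, ht, -, h2⟩ := exists_two_elt hg
  exact ⟨x, t, hx, ht, h2⟩

theorem HasReal.isConj {p : ℕ} (h : HasReal p G) : ∃ x : G, orderOf x = p ∧ IsConj x x⁻¹ := by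
  obtain ⟨x, t, hx, -, h2⟩ := h
  exact ⟨x, hx, isConj_iff.2 ⟨t, h2⟩⟩

theorem hasReal_iff [Finite G] {p : ℕ} : HasReal p G ↔ ∃ x : G, orderOf x = p ∧ IsConj x x⁻¹ :=
  ⟨HasReal.isConj, fun ⟨_, hx, h⟩ => hasReal_of_isConj hx h⟩

/-- A nontrivial `p`-element inverted by a 2-element gives one of order `p`. -/
theorem hasReal_of_pElt {p : ℕ} [Fact p.Prime] {y t : G} (hy : ∃ k : ℕ, orderOf y = p ^ k)
    (hy1 : y ≠ 1) (ht : ∃ k : ℕ, orderOf t = 2 ^ k) (h : t * y * t⁻¹ = y⁻¹) : HasReal p G := by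
  obtain ⟨k, hk⟩ := hy
  have hp : p.Prime := Fact.out
  rcases k with _ | k
  · rw [pow_zero, orderOf_eq_one_iff] at hk
    exact absurd hk hy1
  refine ⟨y ^ p ^ k, t, ?_, ht, ?_⟩
  · rw [orderOf_pow_of_dvd (pow_ne_zero _ hp.ne_zero) (by rw [hk]; exact pow_dvd_pow _ (Nat.le_succ _)), hk,
      pow_succ]
    exact Nat.mul_div_cancel_left _ (pow_pos hp.pos _)
  · rw [← conj_pow, h, inv_pow]

/-- A 2-element acting nontrivially on a `p`-subgroup inverts a nontrivial `p`-element, up to taking powers. -/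
theorem hasReal_of_act {p : ℕ} [Fact p.Prime] {R : Subgroup G} (hR : IsPGroup p R) {t : G}
    (ht : ∃ k : ℕ, orderOf t = 2 ^ k) (hn : ∀ r ∈ R, t * r * t⁻¹ ∈ R)
    (hc : ∃ r ∈ R, t * r * t⁻¹ ≠ r) : HasReal p G := by
  classical
  obtain ⟨m, hm⟩ := ht
  have hex : ∃ k : ℕ, ∀ r ∈ R, t ^ 2 ^ k * r * (t ^ 2 ^ k)⁻¹ = r := by
    refine ⟨m, fun r _ => ?_⟩
    rw [← hm, pow_orderOf_eq_one]; simp
  have hpn : ∀ n : ℕ, ∀ r ∈ R, t ^ n * r * (t ^ n)⁻¹ ∈ R := by
    intro n
    induction n with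
    | zero => intro r hr; simpa using hr
    | succ n ih =>
      intro r hr
      have : t ^ (n + 1) * r * (t ^ (n + 1))⁻¹ = t * (t ^ n * r * (t ^ n)⁻¹) * t⁻¹ := by
        rw [pow_succ']; group
      rw [this]
      exact hn _ (ih r hr)
  set k := Nat.find hex with hk
  have hk1 := Nat.find_spec hex
  have hk0 : k ≠ 0 := by
    intro h0
    rw [← hk, h0] at hk1
    obtain ⟨r, hr, hne⟩ := hc
    exact hne (by simpa using hk1 r hr)
  obtain ⟨j, hj⟩ := Nat.exists_eq_succ_of_ne_zero hk0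
  have hj1 : ¬ ∀ r ∈ R, t ^ 2 ^ j * r * (t ^ 2 ^ j)⁻¹ = r :=
    Nat.find_min hex (by rw [← hk, hj]; exact Nat.lt_succ_self _)
  push Not at hj1
  obtain ⟨r, hr, hne⟩ := hj1
  set s := t ^ 2 ^ j with hs
  have hss : s * s = t ^ 2 ^ k := by rw [hs, hj, pow_succ, pow_mul, pow_two]
  have hsR : s * r * s⁻¹ ∈ R := hpn _ r hr
  have hs2 : (s * s) * r * (s * s)⁻¹ = r := by rw [hss]; exact hk1 r hr
  set y := r⁻¹ * (s * r * s⁻¹) with hy
  have hyR : y ∈ R := R.mul_mem (R.inv_mem hr) hsR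
  have hy1 : y ≠ 1 := by
    intro h
    exact hne (by rw [hy, inv_mul_eq_one] at h; exact h.symm)
  refine hasReal_of_pElt (y := y) (t := s) ?_ hy1 ?_ ?_
  · obtain ⟨k, hk⟩ := (IsPGroup.iff_orderOf.1 hR) ⟨y, hyR⟩
    exact ⟨k, by rw [← hk, Subgroup.orderOf_mk]⟩
  · have : orderOf s ∣ 2 ^ m := by rw [hs, ← hm]; exact orderOf_pow_dvd _
    obtain ⟨i, -, hi⟩ := (Nat.dvd_prime_pow Nat.prime_two).1 this
    exact ⟨i, hi⟩
  · calc s * y * s⁻¹ = (s * r * s⁻¹)⁻¹ * ((s * s) * r * (s * s)⁻¹) := by rw [hy]; group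
      _ = y⁻¹ := by rw [hs2, hy]; group

/-- The property passes from a section to the group. -/
theorem HasReal.of_involves {Y : Type*} [Group Y] [Finite G] {p : ℕ} [Fact p.Prime] (hp : p ≠ 2)
    (h : Lib.Involves.Involves G Y) (hY : HasReal p Y) : HasReal p G := by
  obtain ⟨H, f, hf⟩ := h
  obtain ⟨x, t, hx, ht, htx⟩ := hY
  have hpp : p.Prime := Fact.out
  -- work in `H`
  let X : Subgroup H := (zpowers x).comap f
  obtain ⟨t', ht'⟩ := hf t
  obtain ⟨R⟩ : Nonempty (Sylow p X) := inferInstance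
  let R' : Subgroup H := (R : Subgroup X).map X.subtype
  have hRp : IsPGroup p R' := R.isPGroup'.map _
  -- conjugation by `t'` is an automorphism of `X`
  have hzx : ∀ y ∈ zpowers x, t * y * t⁻¹ ∈ zpowers x := by
    rintro _ ⟨n, rfl⟩
    have : t * x ^ n * t⁻¹ = (x⁻¹) ^ n := by rw [← htx, conj_zpow]
    simp only [this]
    exact zpow_mem (inv_mem (mem_zpowers x)) n
  have hzx' : ∀ y ∈ zpowers x, t⁻¹ * y * t ∈ zpowers x := by
    have hfin : Finite Y := Finite.of_surjective f hf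
    intro y hy
    have : ∀ n : ℕ, ∀ y ∈ zpowers x, t ^ n * y * (t ^ n)⁻¹ ∈ zpowers x := by
      intro n
      induction n with
      | zero => intro y hy; simpa using hy
      | succ n ih =>
        intro y hy
        have e : t ^ (n + 1) * y * (t ^ (n + 1))⁻¹ = t * (t ^ n * y * (t ^ n)⁻¹) * t⁻¹ := by
          rw [pow_succ']; group
        rw [e]; exact hzx _ (ih y hy)
    have h2 := this (orderOf t - 1) y hy
    have e : t ^ (orderOf t - 1) = t⁻¹ := by
      rw [eq_inv_iff_mul_eq_one, ← pow_succ, Nat.sub_add_cancel (orderOf_pos t), pow_orderOf_eq_one]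
    rwa [e, inv_inv] at h2
  have hXn : ∀ y : H, y ∈ X ↔ t' * y * t'⁻¹ ∈ X := by
    intro y
    simp only [X, mem_comap, map_mul, map_inv, ht']
    refine ⟨hzx _, fun h => ?_⟩
    have := hzx' _ h
    simpa [mul_assoc] using this
  have htn : t' ∈ normalizer (X : Set H) := by
    rw [mem_normalizer_iff]; exact hXn
  -- Frattini
  obtain ⟨k, hkX, hk⟩ : ∃ k ∈ X, ∀ r ∈ R', (k * t') * r * (k * t')⁻¹ ∈ R' := by
    -- the Sylow subgroup `t' R t'⁻¹` of `X`
    let φ : X ≃* X := (normalizerMonoidHom X ⟨t', htn⟩)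
    have hφ : ∀ y : X, ((φ y : X) : H) = t' * (y : H) * t'⁻¹ := fun y => rfl
    obtain ⟨k, hk⟩ := MulAction.exists_smul_eq X (R.mapSurjective φ.surjective) R
    refine ⟨k, k.2, ?_⟩
    rintro _ ⟨r, hr, rfl⟩
    have h1 : φ r ∈ (R.mapSurjective φ.surjective : Subgroup X) := mem_map_of_mem _ hr
    have h2 : k * φ r * k⁻¹ ∈ (R : Subgroup X) := by
      rw [← hk]
      exact mem_map_of_mem (MulDistribMulAction.toMonoidEnd _ _ (MulAut.conj k)) h1
    refine ⟨_, h2, ?_⟩
    simp only [coe_subtype, coe_mul, coe_inv, hφ]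
    group
  -- `R` maps onto `⟨x⟩`
  have hrx : ∃ r ∈ R', f r = x := by
    let g : X →* zpowers x := f.subgroupComap (zpowers x)
    have hg : Function.Surjective g := by
      rintro ⟨y, hy⟩
      obtain ⟨z, rfl⟩ := hf y
      exact ⟨⟨z, hy⟩, rfl⟩
    have h1 : Nat.card (zpowers x) = p := by rw [Nat.card_zpowers, hx]
    have hS := (R.mapSurjective hg)
    have htop : ((R.mapSurjective hg : Sylow p (zpowers x)) : Subgroup (zpowers x)) = ⊤ := by
      have hpt : IsPGroup p (⊤ : Subgroup (zpowers x)) :=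
        (IsPGroup.of_card (n := 1) (by rw [h1, pow_one])).to_subgroup ⊤
      exact ((R.mapSurjective hg).is_maximal' hpt le_top).symm
    have hxm : (⟨x, mem_zpowers x⟩ : zpowers x) ∈
        ((R.mapSurjective hg : Sylow p (zpowers x)) : Subgroup (zpowers x)) := by
      rw [htop]; exact mem_top _
    obtain ⟨r, hr, hr2⟩ := hxm
    exact ⟨r, mem_map_of_mem _ hr, congrArg Subtype.val hr2⟩
  obtain ⟨r, hrR, hrx⟩ := hrx
  -- pass to a 2-element
  have hgx : f (k * t') * x * (f (k * t'))⁻¹ = x⁻¹ := by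
    obtain ⟨n, hn⟩ := (show f k ∈ zpowers x from hkX)
    have hc : f k * x⁻¹ * (f k)⁻¹ = x⁻¹ := by
      rw [← hn]
      group
    rw [map_mul, ht']
    calc f k * t * x * (f k * t)⁻¹ = f k * (t * x * t⁻¹) * (f k)⁻¹ := by group
      _ = x⁻¹ := by rw [htx, hc]
  set g := k * t' with hg
  obtain ⟨j, m, hm, hjm⟩ := Nat.exists_eq_two_pow_mul_odd (orderOf_pos g).ne'
  have hs : orderOf (g ^ m) = 2 ^ j := by
    rw [orderOf_pow_of_dvd (by rintro rfl; simp at hm) (by rw [hjm]; exact Dvd.intro_left _ rfl), hjm]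
    exact Nat.mul_div_cancel _ hm.pos
  have hpow : ∀ n : ℕ, ∀ r ∈ R', g ^ n * r * (g ^ n)⁻¹ ∈ R' := by
    intro n
    induction n with
    | zero => intro r hr; simpa using hr
    | succ n ih =>
      intro r hr
      have : g ^ (n + 1) * r * (g ^ (n + 1))⁻¹ = g * (g ^ n * r * (g ^ n)⁻¹) * g⁻¹ := by
        rw [pow_succ']; group
      rw [this]
      exact hk _ (ih r hr)
  have hpowx : ∀ n : ℕ, (f g) ^ (2 * n + 1) * x * ((f g) ^ (2 * n + 1))⁻¹ = x⁻¹ := by
    intro n
    induction n with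
    | zero => simpa using hgx
    | succ n ih =>
      have e : (f g) ^ (2 * (n + 1) + 1) = (f g) * (f g) * (f g) ^ (2 * n + 1) := by
        rw [show 2 * (n + 1) + 1 = (2 * n + 1) + 1 + 1 by ring, pow_succ', pow_succ' (f g) (2 * n + 1)]
        group
      have h1 : f g * x⁻¹ * (f g)⁻¹ = x := by
        have := congrArg (fun y => y⁻¹) hgx
        simp only [mul_inv_rev, inv_inv] at this
        rw [← mul_assoc] at this
        exact this
      rw [e]
      calc (f g) * (f g) * (f g) ^ (2 * n + 1) * x * ((f g) * (f g) * (f g) ^ (2 * n + 1))⁻¹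
          = f g * (f g * ((f g) ^ (2 * n + 1) * x * ((f g) ^ (2 * n + 1))⁻¹) * (f g)⁻¹) * (f g)⁻¹ := by
            group
        _ = x⁻¹ := by rw [ih, h1, hgx]
  have hH : HasReal p H := by
    refine hasReal_of_act (R := R') (t := g ^ m) hRp ⟨j, hs⟩ (hpow m) ⟨r, hrR, ?_⟩
    intro h
    have h2 := congrArg f h
    rw [map_mul, map_mul, map_inv, map_pow, hrx] at h2
    obtain ⟨n, rfl⟩ := hm
    rw [hpowx n] at h2
    have h3 : x ^ 2 = 1 := by
      rw [pow_two, mul_eq_one_iff_eq_inv]; exact h2.symm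
    have h4 := orderOf_dvd_of_pow_eq_one h3
    rw [hx] at h4
    exact hp ((Nat.prime_dvd_prime_iff_eq hpp Nat.prime_two).1 h4)
  obtain ⟨y, s, hy, ⟨i, hi⟩, hys⟩ := hH
  refine ⟨y, s, by rw [Subgroup.orderOf_coe]; exact hy, ⟨i, by rw [Subgroup.orderOf_coe]; exact hi⟩, ?_⟩
  exact congrArg Subtype.val hys

theorem HasReal.of_subgroup {p : ℕ} {H : Subgroup G} (h : HasReal p H) : HasReal p G := by
  obtain ⟨y, s, hy, ⟨i, hi⟩, hys⟩ := h
  refine ⟨y, s, by rw [Subgroup.orderOf_coe]; exact hy, ⟨i, by rw [Subgroup.orderOf_coe]; exact hi⟩, ?_⟩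
  exact congrArg Subtype.val hys

theorem HasReal.of_quotient [Finite G] {p : ℕ} [Fact p.Prime] (hp : p ≠ 2) {N : Subgroup G} [N.Normal]
    (h : HasReal p (G ⧸ N)) : HasReal p G :=
  h.of_involves hp (Lib.Involves.of_surjective (QuotientGroup.mk' N) (QuotientGroup.mk'_surjective N))

theorem HasReal.map_equiv {p : ℕ} {Y : Type*} [Group Y] (e : Y ≃* G) (h : HasReal p Y) : HasReal p G := by
  obtain ⟨y, s, hy, ⟨i, hi⟩, hys⟩ := h
  refine ⟨e y, e s, by rw [MulEquiv.orderOf_eq]; exact hy, ⟨i, by rw [MulEquiv.orderOf_eq]; exact hi⟩, ?_⟩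
  rw [← map_inv, ← map_mul, ← map_mul, hys, map_inv]

theorem HasReal.map_injective {p : ℕ} {Y : Type*} [Group Y] (f : Y →* G) (hf : Function.Injective f)
    (h : HasReal p Y) : HasReal p G := by
  obtain ⟨y, s, hy, ⟨i, hi⟩, hys⟩ := h
  refine ⟨f y, f s, by rw [orderOf_injective f hf]; exact hy,
    ⟨i, by rw [orderOf_injective f hf]; exact hi⟩, ?_⟩
  rw [← map_inv, ← map_mul, ← map_mul, hys, map_inv]

end Cfsg.Agent.H722.RealP
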