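import Mathlib
import Cfsg.Agent.Lib.Involves
import Cfsg.Agent.Lib.Dihedral
import Cfsg.Agent.H722.RealP
set_option linter.all false

/-!
# Real elements of odd prime order and dihedral sections
-/

set_option autoImplicit false

namespace Cfsg.Agent.H722.RealP

open Subgroup

variable {G : Type*} [Group G]

theorem hasReal_dihedral {p : ℕ} : HasReal p (DihedralGroup p) := by
  refine ⟨DihedralGroup.r 1, DihedralGroup.sr 0, DihedralGroup.orderOf_r_one, ⟨1, ?_⟩, ?_⟩
  · rw [DihedralGroup.orderOf_sr, pow_one]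
  · simp

/-- A real element of odd prime order `p` gives a section `D_{2p}`. -/
theorem involves_dihedral {p : ℕ} [Fact p.Prime] (hp : p ≠ 2) (h : HasReal p G) :
    Lib.Involves.Involves G (DihedralGroup p) := by
  obtain ⟨x, t, hx, -, h⟩ := h
  have hpp : p.Prime := Fact.out
  have hxx : x⁻¹ ≠ x := by
    intro h2
    have h3 : x ^ 2 = 1 := by rw [pow_two, mul_eq_one_iff_eq_inv]; exact h2.symm
    have h4 := orderOf_dvd_of_pow_eq_one h3
    rw [hx] at h4
    exact hp ((Nat.prime_dvd_prime_iff_eq hpp Nat.prime_two).1 h4)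
  let K : Subgroup G := closure {x, t}
  let xK : K := ⟨x, subset_closure (by simp)⟩
  let tK : K := ⟨t, subset_closure (by simp)⟩
  have hxtK : tK * xK * tK⁻¹ = xK⁻¹ := Subtype.ext h
  -- `t²` is central in `K`
  have ht2x : t * t * x * (t * t)⁻¹ = x := by
    have h1 := congrArg (fun y => y⁻¹) h
    simp only [mul_inv_rev, inv_inv] at h1
    calc t * t * x * (t * t)⁻¹ = t * (t * x * t⁻¹) * t⁻¹ := by group
      _ = x := by rw [h, mul_assoc]; exact h1
  have ht2 : tK * tK ∈ center K := by
    rw [mem_center_iff]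
    rintro ⟨k, hk⟩
    apply Subtype.ext
    change k * (t * t) = t * t * k
    induction hk using closure_induction with
    | mem y hy =>
      rcases hy with rfl | hy
      · rw [mul_inv_eq_iff_eq_mul] at ht2x
        exact ht2x.symm
      · rw [Set.mem_singleton_iff] at hy
        subst hy; group
    | one => simp
    | mul a b _ _ ha hb => rw [mul_assoc, hb, ← mul_assoc, ha, mul_assoc]
    | inv a _ ha =>
      rw [inv_mul_eq_iff_eq_mul, ← mul_assoc, ha, mul_assoc, mul_inv_cancel, mul_one]
  let q := QuotientGroup.mk' (center K)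
  have hxc : q xK ≠ 1 := by
    intro h1
    have h2 : xK ∈ center K := (QuotientGroup.eq_one_iff xK).1 h1
    rw [mem_center_iff] at h2
    have h3 := congrArg Subtype.val (h2 tK)
    change t * x = x * t at h3
    rw [h3, mul_inv_cancel_right] at h
    exact hxx h.symm
  have hqx : orderOf (q xK) = p := by
    apply orderOf_eq_prime
    · rw [← map_pow]
      have : xK ^ p = 1 := Subtype.ext (by change x ^ p = 1; rw [← hx, pow_orderOf_eq_one])
      rw [this, map_one]
    · exact hxc
  have hqt : q tK * q tK = 1 := by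
    rw [← map_mul]
    exact (QuotientGroup.eq_one_iff _).2 ht2
  have hqtx : q tK * q xK * q tK = (q xK)⁻¹ := by
    have h1 : (q tK)⁻¹ = q tK := inv_eq_of_mul_eq_one_left hqt
    have h2 := congrArg q hxtK
    rw [map_mul, map_mul, map_inv, map_inv, h1] at h2
    exact h2
  have hqn : q tK ∉ zpowers (q xK) := by
    rintro ⟨n, hn⟩
    have hc : q tK * q xK = q xK * q tK := by
      simp only at hn
      rw [← hn]; group
    rw [hc, mul_assoc, hqt, mul_one] at hqtx
    have h3 : (q xK) ^ 2 = 1 := by rw [pow_two, mul_eq_one_iff_eq_inv]; exact hqtx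
    have h4 := orderOf_dvd_of_pow_eq_one h3
    rw [hqx] at h4
    exact hp ((Nat.prime_dvd_prime_iff_eq hpp Nat.prime_two).1 h4)
  obtain ⟨e⟩ := Lib.Dihedral.nonempty_mulEquiv_closure (q xK) (q tK) hqx hqt hqtx hqn
  apply Lib.Involves.of_subgroup (H := K)
  apply Lib.Involves.of_quotient (N := center K)
  apply Lib.Involves.of_subgroup (H := closure {q xK, q tK})
  exact Lib.Involves.of_surjective e.toMonoidHom e.surjective

theorem involves_dihedral_iff [Finite G] {p : ℕ} [Fact p.Prime] (hp : p ≠ 2) :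
    Lib.Involves.Involves G (DihedralGroup p) ↔ HasReal p G :=
  ⟨fun h => hasReal_dihedral.of_involves hp h, involves_dihedral hp⟩

theorem hasReal_perm_four : HasReal 3 (Equiv.Perm (Fin 4)) := by
  refine ⟨Equiv.swap 0 1 * Equiv.swap 1 2, Equiv.swap 0 1, ?_, ⟨1, ?_⟩, ?_⟩
  · apply orderOf_eq_prime <;> decide
  · rw [pow_one]; apply orderOf_eq_prime <;> decide
  · decide

theorem hasReal_perm_three : HasReal 3 (Equiv.Perm (Fin 3)) := by
  refine ⟨Equiv.swap 0 1 * Equiv.swap 1 2, Equiv.swap 0 1, ?_, ⟨1, ?_⟩, ?_⟩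
  · apply orderOf_eq_prime <;> decide
  · rw [pow_one]; apply orderOf_eq_prime <;> decide
  · decide

end Cfsg.Agent.H722.RealP
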